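import Groth.Agent.Lib.DualQCoh12.Basic
import Groth.Agent.Lib.CurveMult.RelNef
import Groth.Agent.Lib.CurveRR.Dual
import Groth.Agent.Lib.LeffAmp7.Stalks
import Groth.Agent.Lib.OX.LocFreeTensor
import Groth.Agent.Lib.ProjPic26.Relative
import Groth.Agent.S0846

/-!
# Duality pairs are determined by the twists of the structure sheaf
-/

set_option autoImplicit false
set_option backward.isDefEq.respectTransparency false
set_option linter.style.haveILetI false

universe u

open CategoryTheory CategoryTheory.Limits AlgebraicGeometry TopologicalSpace Opposite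

noncomputable section

namespace GrothLib.DualQCoh12

section Vanishing

variable {A : Type u} [CommRing A] [IsNoetherianRing A] {X : Scheme.{u}} [X.Over (Spec (CommRingCat.of A))]
  [IsProper (X ↘ Spec (CommRingCat.of A))] {d : ℕ}
  (hfib : ∀ y : ↥(Spec (CommRingCat.of A)),
    topologicalKrullDim ↥((X ↘ Spec (CommRingCat.of A)).fiber y) ≤ (d : WithBot ℕ∞))

include hfib in
/-- Vanishing of cohomology of coherent modules above the fibre dimension. -/
theorem subsingleton_HH_of_coh {G : X.Modules} (hG : Coh.IsCoh G) {p : ℕ} (hp : d < p) :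
    Subsingleton (Coh.HH X G p) := by
  haveI : IsLocallyNoetherian X := LocallyOfFiniteType.isLocallyNoetherian (X ↘ Spec (CommRingCat.of A))
  haveI := ProjCoh.moduleFinite_HH A G hG p
  refine CurveMult.RelNef.eq_zero_of_smul_maximal_eq_top (A := A) fun m hm => ?_
  obtain ⟨e⟩ := FormalFn.formal_functions (I := m) (M := G) (p := p) hG
  have hlvl : ∀ n, Subsingleton (Formal.HHmodPow m G p n) := by
    intro n
    let f := X ↘ Spec (CommRingCat.of A)
    let y : ↥(Spec (CommRingCat.of A)) := ⟨m, hm.isPrime⟩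
    have hy : IsClosed ({y} : Set _) := (PrimeSpectrum.isClosed_singleton_iff_isMaximal y).2 hm
    have hdim : topologicalKrullDim ↥(f ⁻¹' {y}) ≤ (d : WithBot ℕ∞) :=
      (IsHomeomorph.topologicalKrullDim_eq _ (f.fiberHomeo y).symm.isHomeomorph).trans_le (hfib y)
    haveI : CompactSpace X := QuasiCompact.compactSpace_of_compactSpace f
    haveI : IsNoetherian X := {}
    haveI : NoetherianSpace X := inferInstance
    haveI : NoetherianSpace (TopCat.of ↥(f ⁻¹' {y}) : TopCat.{u}) :=
      inferInstanceAs (NoetherianSpace ↥(f ⁻¹' {y}))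
    refine GVanish.subsingleton_H_of_closedEmbedding (Z := TopCat.of ↥(f ⁻¹' {y})) (X := X.toTopCat)
      (TopCat.ofHom ⟨Subtype.val, continuous_subtype_val⟩)
      ((hy.preimage f.continuous).isClosedEmbedding_subtypeVal) d hdim _ (fun x hx => ?_) p hp
    have hxP : f x ≠ y := fun he => hx ⟨⟨x, he⟩, rfl⟩
    obtain ⟨a, ha, hax⟩ : ∃ a ∈ m, a ∉ (f x).asIdeal := by
      by_contra hne
      refine hxP (PrimeSpectrum.ext ?_)
      refine (hm.eq_of_le (f x).isPrime.ne_top fun a ha => by_contra fun h => hne ⟨a, ha, h⟩).symm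
    haveI := GVanish.subsingleton_stalk_of_killedBy
      ((FormalSys.IsQuot.modPowπ m (n + 1) G).killedBy)
      (x := x) (Ideal.pow_mem_pow ha (n + 1)) (fun h => hax ((f x).isPrime.mem_of_pow_mem _ h))
    exact @AddCommGrpCat.isZero_of_subsingleton _ this
  haveI hlim : Subsingleton (Formal.HHlim m G p) :=
    ⟨fun a b => Subtype.ext (funext fun n => @Subsingleton.elim _ (hlvl n) _ _)⟩
  exact GrothLib.AdicFS.subsingleton_adicCompletion_iff.1 e.toEquiv.subsingleton

include hfib in
/-- Top cohomology is right exact on coherent modules. -/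
theorem surjective_HH_of_epi {M N : X.Modules} (hM : Coh.IsCoh M) (hN : Coh.IsCoh N) (f : M ⟶ N) [Epi f] :
    Function.Surjective (Cohom.hhMap A f d) := by
  haveI : IsLocallyNoetherian X := LocallyOfFiniteType.isLocallyNoetherian (X ↘ Spec (CommRingCat.of A))
  have hS : (ShortComplex.mk (kernel.ι f) f (kernel.condition f)).ShortExact :=
    { exact := ShortComplex.exact_of_f_is_kernel _ (kernelIsKernel f) }
  intro z
  exact (Cohom.exact₃ (A := A) hS d z).1 (@Subsingleton.elim _
    (subsingleton_HH_of_coh hfib (QCoh.isCoh_kernel f hM hN) (Nat.lt_succ_self d)) _ _)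

end Vanishing

section Pairs

variable {A : Type u} [CommRing A] {X : Scheme.{u}} [X.Over (Spec (CommRingCat.of A))]
  {r : ℕ} {ω : X.Modules} (tr : Coh.HH X ω r →ₗ[A] A)

/-- The duality map of a finite sum is bijective if those of the summands are. -/
theorem bijective_dualityMap_sigma {k : ℕ} (P : Fin k → X.Modules)
    (h : ∀ j, Function.Bijective (Canon.dualityMap A X r ω tr (P j))) :
    Function.Bijective (Canon.dualityMap A X r ω tr (∐ P)) := by
  classical
  refine ⟨fun φ φ' e => Sigma.hom_ext _ _ fun j => (h j).1 ?_, fun ψ => ?_⟩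
  · rw [dualityMap_comp, dualityMap_comp, e]
  choose φ hφ using fun j => (h j).2 (ψ ∘ₗ Canon.HHlin A (Sigma.ι P j) r)
  refine ⟨Sigma.desc φ, LinearMap.ext fun x => ?_⟩
  let π : ∀ j, (∐ P) ⟶ P j := fun j => Sigma.desc fun l => if e : l = j then eqToHom (by rw [e]) else 0
  have htot : (∑ j, π j ≫ Sigma.ι P j) = 𝟙 (∐ P) := Sigma.hom_ext _ _ fun l => by
    rw [Preadditive.comp_sum, Finset.sum_eq_single l]
    · simp [π]
    · intro j _ hj
      simp [π, Ne.symm hj]
    · exact fun hh => (hh (Finset.mem_univ l)).elim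
  have hx : x = ∑ j, Canon.HHlin A (Sigma.ι P j) r (Canon.HHlin A (π j) r x) :=
    (Euler.hhMap_id (A := A) _ r x).symm.trans
      (((congrArg (fun g => Cohom.hhMap A g r x) htot.symm).trans (CurveRR.hhMap_sum _ _ r x)).trans
        (Finset.sum_congr rfl fun j _ => Euler.hhMap_comp (A := A) (π j) (Sigma.ι P j) r x))
  rw [hx, map_sum, map_sum]
  refine Finset.sum_congr rfl fun j _ => ?_
  exact LinearMap.congr_fun (((dualityMap_comp tr (Sigma.ι P j) (Sigma.desc φ)).symm.trans
    (congrArg (Canon.dualityMap A X r ω tr (P j)) (Sigma.ι_desc φ j))).trans (hφ j)) _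

/-- The duality map passes to cokernels when top cohomology preserves epimorphisms. -/
theorem bijective_dualityMap_of_presentation {P₁ P₀ F : X.Modules} (a : P₁ ⟶ P₀) (p : P₀ ⟶ F) [Epi p]
    (w : a ≫ p = 0) (b : P₁ ⟶ kernel p) [Epi b] (hb : b ≫ kernel.ι p = a)
    (hsurj : Function.Surjective (Cohom.hhMap A p r))
    (h₁ : Function.Bijective (Canon.dualityMap A X r ω tr P₁))
    (h₀ : Function.Bijective (Canon.dualityMap A X r ω tr P₀)) :
    Function.Bijective (Canon.dualityMap A X r ω tr F) := by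
  refine ⟨fun φ φ' e => (cancel_epi p).1 (h₀.1 ?_), fun ψ => ?_⟩
  · rw [dualityMap_comp, dualityMap_comp, e]
  obtain ⟨χ, hχ⟩ := h₀.2 (ψ ∘ₗ Canon.HHlin A p r)
  have haχ : a ≫ χ = 0 := h₁.1 (LinearMap.ext fun x => by
    refine (LinearMap.congr_fun (dualityMap_comp tr a χ) x).trans ?_
    rw [hχ]
    show ψ (Cohom.hhMap A p r (Cohom.hhMap A a r x)) = _
    rw [← Euler.hhMap_comp, w, CurveRR.hhMap_zero_hom, map_zero]
    exact (((congrArg tr (CurveRR.hhMap_zero_hom (A := A) (M := P₁) (N := ω) r x))).trans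
      (map_zero tr)).symm)
  have hker : kernel.ι p ≫ χ = 0 := (cancel_epi b).1 (by rw [← Category.assoc, hb, haχ, comp_zero])
  refine ⟨Abelian.epiDesc p χ hker, LinearMap.ext fun y => ?_⟩
  obtain ⟨x, rfl⟩ := hsurj y
  exact LinearMap.congr_fun (((dualityMap_comp tr p _).symm.trans
    (congrArg (Canon.dualityMap A X r ω tr P₀) (Abelian.comp_epiDesc p χ hker))).trans hχ) x

end Pairs

variable {A : Type u} [CommRing A] [IsNoetherianRing A] {n : ℕ}

/-- A coherent module on a closed subscheme of projective space is a quotient of a finite sum of twists. -/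
theorem exists_epi_twists {X : Scheme.{u}} (ι : X ⟶ CohB1.ProjSpace n A) [IsClosedImmersion ι]
    [IsLocallyNoetherian (CohB1.ProjSpace n A)] (F : X.Modules) (hF : Coh.IsCoh F) :
    ∃ (k : ℕ) (d : Fin k → ℤ)
      (p : (∐ fun j => (Scheme.Modules.pullback ι).obj (Twist.twistProjSpace n A (d j))) ⟶ F), Epi p := by
  have hG : Coh.IsCoh ((Scheme.Modules.pushforward ι).obj F) := FormalExist7.isCoh_pushforward (π := ι) hF
  haveI := hG.1
  obtain ⟨k, d, φ, hφ⟩ := Groth.Agent.S0846.result (CohB1.polyGrading n A) _ hG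
  haveI := LeffAmp7.isIso_counit_closed ι F
  haveI : PreservesColimitsOfSize.{0, 0} (Scheme.Modules.pullback ι) :=
    (Scheme.Modules.pullbackPushforwardAdjunction ι).leftAdjoint_preservesColimits
  haveI := hφ
  exact ⟨k, d, (PreservesCoproduct.iso (Scheme.Modules.pullback ι) _).inv ≫
    (Scheme.Modules.pullback ι).map φ ≫
      (Scheme.Modules.pullbackPushforwardAdjunction ι).counit.app F, inferInstance⟩

/-- Duality on twists gives duality on quasi-coherent modules. -/
theorem isRDualOver_of_twists {r : ℕ} {X : Scheme.{u}} [X.Over (Spec (CommRingCat.of A))]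
    (ι : X ⟶ CohB1.ProjSpace n A) [IsClosedImmersion ι]
    (hι : ι ≫ CohB1.ProjSpace.toSpec n A = X ↘ Spec (CommRingCat.of A))
    (hfib : ∀ y : ↥(Spec (CommRingCat.of A)),
      topologicalKrullDim ↥((X ↘ Spec (CommRingCat.of A)).fiber y) ≤ (r : WithBot ℕ∞))
    {ω : X.Modules} (hω : Coh.IsQCoh ω) (tr : Coh.HH X ω r →ₗ[A] A)
    (h : ∀ m : ℤ, Function.Bijective
      (Canon.dualityMap A X r ω tr ((Scheme.Modules.pullback ι).obj (Twist.twistProjSpace n A m)))) :
    Canon.IsRDualOver A X r ω tr := by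
  haveI := Chow.isProper_toSpec n A
  haveI : IsProper (X ↘ Spec (CommRingCat.of A)) := by rw [← hι]; infer_instance
  haveI : IsLocallyNoetherian (CohB1.ProjSpace n A) :=
    LocallyOfFiniteType.isLocallyNoetherian (CohB1.ProjSpace.toSpec n A)
  haveI : IsLocallyNoetherian X := LocallyOfFiniteType.isLocallyNoetherian (X ↘ Spec (CommRingCat.of A))
  haveI : CompactSpace X := QuasiCompact.compactSpace_of_compactSpace (X ↘ Spec (CommRingCat.of A))
  haveI : IsNoetherian X := {}
  refine isRDualOver_of_coh hω tr fun F hF => ?_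
  have hP : ∀ {k : ℕ} (d : Fin k → ℤ),
      Coh.IsCoh (∐ fun j => (Scheme.Modules.pullback ι).obj (Twist.twistProjSpace n A (d j))) := fun d =>
    Euler.isCoh_of_isFinLocFree (OX.isFinLocFree_sigma _ fun j => Euler.isFinLocFree_of_isInvertible
      (Ample.isInvertible_pullback ι (ProjPic26.isInvertible_twistProjSpace n A (d j))))
  obtain ⟨k₀, d₀, p, hp⟩ := exists_epi_twists ι F hF
  obtain ⟨k₁, d₁, b, hb⟩ := exists_epi_twists ι (kernel p) (QCoh.isCoh_kernel p (hP d₀) hF)
  exact bijective_dualityMap_of_presentation tr (b ≫ kernel.ι p) p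
    (by rw [Category.assoc, kernel.condition, comp_zero]) b rfl
    (surjective_HH_of_epi hfib (hP d₀) hF p)
    (bijective_dualityMap_sigma tr _ fun j => h (d₁ j))
    (bijective_dualityMap_sigma tr _ fun j => h (d₀ j))

end GrothLib.DualQCoh12

end
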