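import Groth.Agent.Lib.DualQCoh12.TopTrace
import Groth.Agent.Lib.DualQCoh12.Twists
import Groth.Agent.Lib.SerrePn27.Top
import Groth.Agent.Lib.ProjPic26.Relative
import Groth.Agent.S10829
import Mathlib.RingTheory.FiniteType

/-!
# `O(-n-1)` is dualizing on projective space over a Noetherian ring
-/

set_option autoImplicit false
set_option backward.isDefEq.respectTransparency false
set_option linter.style.haveILetI false
universe u

open AlgebraicGeometry CategoryTheory CategoryTheory.Limits TopologicalSpace Opposite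
open GrothLib.Cohom (hhMap)

noncomputable section

namespace GrothLib.DualQCoh12

open GrothLib.GrTilde GrothLib.ProjCohom

variable (n : ℕ) (R : Type u) [CommRing R]

/-- A trace whose value after multiplication by a form is the coefficient pairing. -/
theorem exists_trace :
    ∃ t : Coh.HH (CohB1.ProjSpace n R) (Twist.twistProjSpace n R (-((n : ℤ) + 1))) n →ₗ[R] R, ∀ k : ℕ,
      ∃ L : Coh.HH (CohB1.ProjSpace n R) (Twist.twistProjSpace n R (-((n : ℤ) + 1 + k))) n ≃ₗ[R]
        MvPolynomial.homogeneousSubmodule (Fin (n + 1)) R k,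
        ∀ (P : MvPolynomial (Fin (n + 1)) R) (hP : P ∈ CohB1.polyGrading n R k)
          (h : -((n : ℤ) + 1 + k) + (k : ℕ) = -((n : ℤ) + 1))
          (x : Coh.HH (CohB1.ProjSpace n R) (Twist.twistProjSpace n R (-((n : ℤ) + 1 + k))) n),
          t (hhMap R (mulMor hP h) n x) =
            ∑ a ∈ P.support, MvPolynomial.coeff a P * MvPolynomial.coeff a (L x).1 := by
  have hU : iSup (U n R) = ⊤ := by
    rw [← Ample.ProjMap.iSup_basicOpen_X n R]
    exact le_antisymm (iSup_le fun i => le_iSup_of_le i.down le_rfl) (iSup_le fun i => le_iSup_of_le (ULift.up i) le_rfl)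
  have haff : ∀ (p : ℕ) (a : Fin (p + 1) → ULift.{u} (Fin (n + 1))), IsAffineOpen (⨅ k, U n R (a k)) := by
    intro p a
    have h := W_up (R := R) fun k => (a k).down
    rw [BCCoh.W, Cech.obj_eq_iInf] at h
    rw [show (⨅ k, U n R (a k)) = Dt R fun k => (a k).down from h]
    exact Proj.isAffineOpen_basicOpen _ _ (mon_mem _) (Nat.succ_pos p)
  obtain ⟨e, he, hnat⟩ := BCCoh.exists_linearEquiv (CohB1.ProjSpace.toSpec n R) (U n R) hU haff n
  have hq : ∀ d : ℤ, (Twist.twistProjSpace n R d).IsQuasicoherent := fun d => GrTilde.isQuasicoherent_twist _ d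
  let eL : ∀ d : ℤ, Coh.HH (CohB1.ProjSpace n R) (Twist.twistProjSpace n R d) n ≃ₗ[R] (K n R d).homology n :=
    fun d => (e _ (hq d)).toLinearEquiv (he _ (hq d))
  obtain ⟨E₀, hE₀⟩ := exists_topEquiv (n := n) (R := R) 0
  let coeff0 : MvPolynomial.homogeneousSubmodule (Fin (n + 1)) R 0 →ₗ[R] R :=
    (MvPolynomial.lcoeff R (0 : Fin (n + 1) →₀ ℕ)) ∘ₗ Submodule.subtype _
  let t₀ : Coh.HH (CohB1.ProjSpace n R) (Twist.twistProjSpace n R (-((n : ℤ) + 1 + ((0 : ℕ) : ℤ)))) n →ₗ[R] R :=
    coeff0 ∘ₗ E₀.toLinearMap ∘ₗ (eL _).toLinearMap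
  suffices H : ∀ (w : ℤ) (hw : w = -((n : ℤ) + 1 + ((0 : ℕ) : ℤ))),
      ∃ t : Coh.HH (CohB1.ProjSpace n R) (Twist.twistProjSpace n R w) n →ₗ[R] R, ∀ k : ℕ,
        ∃ L : Coh.HH (CohB1.ProjSpace n R) (Twist.twistProjSpace n R (-((n : ℤ) + 1 + k))) n ≃ₗ[R]
          MvPolynomial.homogeneousSubmodule (Fin (n + 1)) R k,
          ∀ (P : MvPolynomial (Fin (n + 1)) R) (hP : P ∈ CohB1.polyGrading n R k)
            (h : -((n : ℤ) + 1 + k) + (k : ℕ) = w)
            (x : Coh.HH (CohB1.ProjSpace n R) (Twist.twistProjSpace n R (-((n : ℤ) + 1 + k))) n),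
            t (hhMap R (mulMor hP h) n x) =
              ∑ a ∈ P.support, MvPolynomial.coeff a P * MvPolynomial.coeff a (L x).1 from
    H _ (by push_cast; ring)
  rintro w rfl
  refine ⟨t₀, fun k => ?_⟩
  obtain ⟨E, hE⟩ := exists_topEquiv (n := n) (R := R) k
  refine ⟨(eL _).trans E, fun P hP h x => ?_⟩
  obtain ⟨c, hc⟩ := (ModuleCat.epi_iff_surjective _).1
    (inferInstance : Epi ((K n R (-((n : ℤ) + 1 + k))).homologyπ n)) (eL _ x)
  let φ := BCCoh.cxMap (ts n R) (U n R) (mulMor hP h)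
  have h1 : eL _ (hhMap R (mulMor hP h) n x) = (K n R _).homologyπ n (HomologicalComplex.cyclesMap φ n c) := by
    refine (hnat (mulMor hP h) (hq _) (hq _) x).trans ?_
    refine (congrArg (HomologicalComplex.homologyMap φ n) hc.symm).trans ?_
    exact ConcreteCategory.congr_hom (HomologicalComplex.homologyπ_naturality φ n) c
  have h2 : (K n R _).iCycles n (HomologicalComplex.cyclesMap φ n c) = φ.f n ((K n R _).iCycles n c) :=
    ConcreteCategory.congr_hom (HomologicalComplex.cyclesMap_i φ n) c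
  show MvPolynomial.coeff 0 (E₀ (eL _ (hhMap R (mulMor hP h) n x))).1 = _
  rw [h1, hE₀, coeff_topT, h2, co, Φ_mulMor, coeff_toL_mul]
  refine Finset.sum_congr rfl fun a _ => ?_
  show _ = _ * MvPolynomial.coeff a (E (eL _ x)).1
  rw [← hc, hE, coeff_topT, co,
    show neg (0 : Fin (n + 1) →₀ ℕ) - pos a = neg a from funext fun i => by simp [neg, pos]; ring]

variable {n R}

theorem nonempty_twist_add {a b e : ℤ} (h : e + a = b) :
    Nonempty (CohB1.tensorMod (Twist.twistProjSpace n R e) (Twist.twistProjSpace n R a) ≅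
      Twist.twistProjSpace n R b) := by
  subst h
  exact GrTilde.nonempty_twist_tensor_twist (𝒜 := CohB1.polyGrading n R) (ProjPic26.h1_polyGrading n R) e a

theorem nonempty_hom_equiv {a b e : ℤ} (h : e + a = b) :
    Nonempty ((Twist.twistProjSpace n R a ⟶ Twist.twistProjSpace n R b) ≃ₗ[R]
      Coh.HH (CohB1.ProjSpace n R) (Twist.twistProjSpace n R e) 0) := by
  obtain ⟨z⟩ : Nonempty (Coh.structureModule (CohB1.ProjSpace n R) ≅ Twist.twistProjSpace n R 0) :=
    GrTilde.nonempty_structureModule_iso_twist_zero (CohB1.polyGrading n R)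
  obtain ⟨u⟩ := nonempty_twist_add (n := n) (R := R) (add_neg_cancel a)
  obtain ⟨u'⟩ := nonempty_twist_add (n := n) (R := R) (neg_add_cancel a)
  obtain ⟨w⟩ := nonempty_twist_add (n := n) (R := R) h
  exact SerrePn27.nonempty_hom_equiv_of_tensor (k := R) (X := CohB1.ProjSpace n R)
    (L := Twist.twistProjSpace n R a) (M := Twist.twistProjSpace n R (-a)) (A := Twist.twistProjSpace n R a)
    (B := Twist.twistProjSpace n R b) (E := Twist.twistProjSpace n R e) (u ≪≫ z.symm) (u' ≪≫ z.symm)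
    (OX.tensorUnitLeftIso (X := CohB1.ProjSpace n R) (Twist.twistProjSpace n R a)) w

/-- Perfectness of the coefficient pairing. -/
theorem bijective_theta_top
    (t : Coh.HH (CohB1.ProjSpace n R) (Twist.twistProjSpace n R (-((n : ℤ) + 1))) n →ₗ[R] R) {k : ℕ}
    (L : Coh.HH (CohB1.ProjSpace n R) (Twist.twistProjSpace n R (-((n : ℤ) + 1 + k))) n ≃ₗ[R]
      MvPolynomial.homogeneousSubmodule (Fin (n + 1)) R k)
    (hL : ∀ (P : MvPolynomial (Fin (n + 1)) R) (hP : P ∈ CohB1.polyGrading n R k)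
      (h : -((n : ℤ) + 1 + k) + (k : ℕ) = -((n : ℤ) + 1))
      (x : Coh.HH (CohB1.ProjSpace n R) (Twist.twistProjSpace n R (-((n : ℤ) + 1 + k))) n),
      t (hhMap R (mulMor hP h) n x) =
        ∑ a ∈ P.support, MvPolynomial.coeff a P * MvPolynomial.coeff a (L x).1) :
    Function.Bijective (SerrePn27.theta t (Twist.twistProjSpace n R (-((n : ℤ) + 1 + k)))) := by
  classical
  haveI : Fintype {P : Fin (n + 1) → ℕ // ∑ i, P i = k} :=
    Fintype.ofEquiv _ (Sym.equivNatSumOfFintype (Fin (n + 1)) k)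
  let F := formsEquiv (n := n) (R := R) k
  have hsurj : Function.Surjective (SerrePn27.theta t (Twist.twistProjSpace n R (-((n : ℤ) + 1 + k)))) := by
    intro ψ
    let v : {P : Fin (n + 1) → ℕ // ∑ i, P i = k} → R := fun q => ψ (L.symm (F.symm (Pi.single q 1)))
    let P : MvPolynomial.homogeneousSubmodule (Fin (n + 1)) R k := F.symm v
    have h : -((n : ℤ) + 1 + k) + (k : ℕ) = -((n : ℤ) + 1) := by ring
    refine ⟨mulMor P.2 h, LinearMap.ext fun x => ?_⟩
    rw [SerrePn27.theta_apply, hL P.1 P.2 h x]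
    have hx : x = ∑ q, F (L x) q • L.symm (F.symm (Pi.single q 1)) := by
      apply (L.trans F).injective
      rw [map_sum]
      refine (pi_eq_sum_univ' (F (L x))).trans (Finset.sum_congr rfl fun q _ => ?_)
      rw [map_smul, LinearEquiv.trans_apply, L.apply_symm_apply, F.apply_symm_apply]
    conv_rhs => rw [hx, map_sum]
    let mk : {P : Fin (n + 1) → ℕ // ∑ i, P i = k} → (Fin (n + 1) →₀ ℕ) := fun q => Finsupp.equivFunOnFinite.symm q.1
    have hF : ∀ (f : MvPolynomial.homogeneousSubmodule (Fin (n + 1)) R k) q,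
        F f q = MvPolynomial.coeff (mk q) f.1 := fun f q => rfl
    have hP : ∀ q, MvPolynomial.coeff (mk q) P.1 = v q := fun q =>
      (hF P q).symm.trans (congrFun (F.apply_symm_apply v) q)
    refine Finset.sum_bij_ne_zero
      (fun a ha _ => (⟨fun i => a i, (weight_sum' a).symm.trans (P.2 (MvPolynomial.mem_support_iff.1 ha))⟩ :
        {P : Fin (n + 1) → ℕ // ∑ i, P i = k}))
      (fun _ _ _ => Finset.mem_univ _) (fun a _ _ b _ _ e => Finsupp.ext fun i => congrFun (congrArg Subtype.val e) i)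
      (fun q _ hq => ?_) (fun a ha _ => ?_)
    · rw [map_smul, smul_eq_mul, hF] at hq
      change _ * v q ≠ 0 at hq
      rw [← hP] at hq
      exact ⟨mk q, MvPolynomial.mem_support_iff.2 fun e => hq (by rw [e, mul_zero]),
        fun e => hq ((mul_comm _ _).trans e), Subtype.ext (funext fun i => rfl)⟩
    · let q : {P : Fin (n + 1) → ℕ // ∑ i, P i = k} :=
        ⟨fun i => a i, (weight_sum' a).symm.trans (P.2 (MvPolynomial.mem_support_iff.1 ha))⟩
      have hq : mk q = a := Finsupp.ext fun i => rfl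
      rw [map_smul, smul_eq_mul, hF]
      show _ = MvPolynomial.coeff (mk q) (L x).1 * v q
      rw [← hP, hq, mul_comm]
  obtain ⟨H⟩ := nonempty_hom_equiv (n := n) (R := R) (a := -((n : ℤ) + 1 + k)) (b := -((n : ℤ) + 1))
    (e := (k : ℤ)) (by ring)
  obtain ⟨Z⟩ := nonempty_HH_zero (n := n) (R := R) k
  let src := H ≪≫ₗ Z ≪≫ₗ F
  let tgt : Module.Dual R (Coh.HH (CohB1.ProjSpace n R) (Twist.twistProjSpace n R (-((n : ℤ) + 1 + k))) n) ≃ₗ[R]
      ({P : Fin (n + 1) → ℕ // ∑ i, P i = k} → R) :=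
    (L ≪≫ₗ F).symm.dualMap ≪≫ₗ (Pi.basisFun R _).toDualEquiv.symm
  refine ⟨fun φ φ' h => ?_, hsurj⟩
  have hE : Function.Surjective (tgt.toLinearMap ∘ₗ
      (SerrePn27.theta t (Twist.twistProjSpace n R (-((n : ℤ) + 1 + k)))) ∘ₗ src.symm.toLinearMap) :=
    tgt.surjective.comp (hsurj.comp src.symm.surjective)
  have := OrzechProperty.injective_of_surjective_endomorphism _ hE
    (a₁ := src φ) (a₂ := src φ') (by simp [h])
  exact src.injective this

/-- On `P^0` every twist is trivial. -/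
theorem nonempty_twist_iso_zero (m : ℤ) :
    Nonempty (Coh.structureModule (CohB1.ProjSpace 0 R) ≅ Twist.twistProjSpace 0 R m) := by
  obtain ⟨s, hs⟩ := GrTilde.exists_gen_twist (𝒜 := CohB1.polyGrading 0 R)
    (f := MvPolynomial.X (0 : Fin 1)) (Ample.ProjMap.X_mem 0) m
  have htop : Proj.basicOpen (CohB1.polyGrading 0 R) (MvPolynomial.X (0 : Fin 1)) = ⊤ := by
    refine top_le_iff.1 ((Ample.ProjMap.iSup_basicOpen_X 0 R).ge.trans (iSup_le fun i => le_of_eq ?_))
    rw [show i = 0 from Subsingleton.elim (α := Fin 1) _ _]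
  revert s
  rw [show (m * ((1 : ℕ) : ℤ)) = m by simp]
  intro s hs
  obtain ⟨s', hs'⟩ : ∃ s' : Γ(Twist.twist (CohB1.polyGrading 0 R) m, ⊤),
      InvExt.IsGen (Twist.twist (CohB1.polyGrading 0 R) m) ⊤ s' := by
    rw [← htop]; exact ⟨s, hs⟩
  let f := FinCov.homOfSection (X := CohB1.ProjSpace 0 R) (N := Twist.twistProjSpace 0 R m) s'
  have hbij : ∀ W : (CohB1.ProjSpace 0 R).Opens, Function.Bijective (f.app W) := fun W => by
    refine Eq.subst (motive := fun g : Γ(CohB1.ProjSpace 0 R, W) → Γ(Twist.twistProjSpace 0 R m, W) =>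
      Function.Bijective g) ?_ (hs' W le_top)
    funext r
    have h1 := Scheme.Modules.Hom.app_smul f r (FinCov.one (CohB1.ProjSpace 0 R) W)
    rw [FinCov.homOfSection_one] at h1
    refine h1.symm.trans (congrArg (f.app W) ?_)
    exact mul_one r
  haveI : IsIso ((Scheme.Modules.toPresheaf _).map f) := by
    haveI : ∀ U, IsIso (((Scheme.Modules.toPresheaf _).map f).app U) := fun U =>
      (ConcreteCategory.isIso_iff_bijective _).2 (hbij U.unop)
    exact NatIso.isIso_of_isIso_app _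
  haveI : IsIso f := isIso_of_reflects_iso f (Scheme.Modules.toPresheaf _)
  exact ⟨asIso f⟩

theorem bijective_of_iso
    {r : ℕ} {X : Scheme.{u}} [X.Over (Spec (CommRingCat.of R))] {W F G : X.Modules}
    (t : Coh.HH X W r →ₗ[R] R) (i : F ≅ G) (h : Function.Bijective (SerrePn27.theta t G)) :
    Function.Bijective (SerrePn27.theta t F) := by
  refine ⟨fun a b e => (cancel_epi i.inv).1 (h.1 ?_), fun ψ => ?_⟩
  · rw [SerrePn27.theta_comp, SerrePn27.theta_comp, e]
  obtain ⟨φ, hφ⟩ := h.2 (ψ ∘ₗ hhMap R i.inv r)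
  refine ⟨i.hom ≫ φ, LinearMap.ext fun x => ?_⟩
  rw [SerrePn27.theta_comp, hφ]
  show ψ (hhMap R i.inv r (hhMap R i.hom r x)) = ψ x
  rw [← Euler.hhMap_comp, i.hom_inv_id, Euler.hhMap_id]

variable (n R) in
/-- **Duality on twists.** -/
theorem exists_bijective_theta :
    ∃ t : Coh.HH (CohB1.ProjSpace n R) (Twist.twistProjSpace n R (-((n : ℤ) + 1))) n →ₗ[R] R,
      ∀ m : ℤ, Function.Bijective (SerrePn27.theta t (Twist.twistProjSpace n R m)) := by
  obtain ⟨t, ht⟩ := exists_trace n R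
  have top : ∀ k : ℕ, Function.Bijective (SerrePn27.theta t (Twist.twistProjSpace n R (-((n : ℤ) + 1 + k)))) :=
    fun k => by obtain ⟨L, hL⟩ := ht k; exact bijective_theta_top t L hL
  refine ⟨t, fun m => ?_⟩
  by_cases hm : m ≤ -((n : ℤ) + 1)
  · have := top (-((n : ℤ) + 1) - m).toNat
    rwa [show -((n : ℤ) + 1 + ((-((n : ℤ) + 1) - m).toNat : ℕ)) = m by omega] at this
  rcases Nat.eq_zero_or_pos n with rfl | hn
  · obtain ⟨i⟩ := nonempty_twist_iso_zero (R := R) m
    obtain ⟨j⟩ := nonempty_twist_iso_zero (R := R) (-(((0 : ℕ) : ℤ) + 1 + (0 : ℕ)))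
    exact bijective_of_iso t (i.symm ≪≫ j) (top 0)
  · obtain ⟨H⟩ := nonempty_hom_equiv (n := n) (R := R) (a := m) (b := -((n : ℤ) + 1))
      (e := -((n : ℤ) + 1) - m) (by ring)
    haveI := ProjCohom.subsingleton_HH (n := n) (R := R) (q := 0) (d := -((n : ℤ) + 1) - m) (by omega) (by omega)
    haveI := ProjCohom.subsingleton_HH (n := n) (R := R) (q := n) (d := m) (by omega) (by omega)
    haveI : Subsingleton (Twist.twistProjSpace n R m ⟶ Twist.twistProjSpace n R (-((n : ℤ) + 1))) :=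
      H.toEquiv.subsingleton
    exact ⟨fun a b _ => Subsingleton.elim a b, fun ψ => ⟨0, LinearMap.ext fun x => by
      rw [Subsingleton.elim x 0, map_zero, map_zero]⟩⟩

/-- The fibres of projective space have dimension at most `n`. -/
theorem fiber_dim_le (y : ↥(Spec (CommRingCat.of R))) :
    topologicalKrullDim ↥((CohB1.ProjSpace.toSpec n R).fiber y) ≤ (n : WithBot ℕ∞) := by
  haveI := ProjIso26.isIso_toProjSpace n R
  let e := asIso (Ample.ProjMap.toProjSpace n R)
  obtain ⟨ω, α, -⟩ := ProjPic26.exists_fiber_iso n (Spec (CommRingCat.of R)) y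
  have hsq : IsPullback ((CohB1.ProjSpaceOver.toBase n (Spec (CommRingCat.of R))).fiberι y ≫ e.hom)
      ((CohB1.ProjSpaceOver.toBase n (Spec (CommRingCat.of R))).fiberToSpecResidueField y)
      (CohB1.ProjSpace.toSpec n R) ((Spec (CommRingCat.of R)).fromSpecResidueField y) :=
    (IsPullback.of_hasPullback (CohB1.ProjSpaceOver.toBase n (Spec (CommRingCat.of R)))
      ((Spec (CommRingCat.of R)).fromSpecResidueField y)).of_iso (Iso.refl _) e (Iso.refl _) (Iso.refl _)
      (by simp [Scheme.Hom.fiberι]) (by simp [Scheme.Hom.fiberToSpecResidueField])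
      (by simp [e, Ample.ProjMap.toProjSpace_toSpec]) (by simp)
  refine le_of_eq ?_
  show topologicalKrullDim ↥(pullback (CohB1.ProjSpace.toSpec n R)
    ((Spec (CommRingCat.of R)).fromSpecResidueField y)) = _
  rw [← ((α ≪≫ hsq.isoPullback).hom.homeomorph.isHomeomorph).topologicalKrullDim_eq, Groth.Agent.S10829.result]

end GrothLib.DualQCoh12

end
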