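import Groth.Prelude.Def_Canon
import Groth.Agent.Lib.FTIdeals9.Colim

/-!
# A duality pair is determined on coherent modules

For a Noetherian scheme over `A`, if the duality map of a pair `(ω, tr)` is bijective on coherent
modules, then it is bijective on quasi-coherent modules: a quasi-coherent module is the filtered
colimit of its finite type submodules and cohomology commutes with that colimit.
-/

set_option autoImplicit false
set_option backward.isDefEq.respectTransparency false
set_option linter.style.haveILetI false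

universe u

open CategoryTheory CategoryTheory.Limits AlgebraicGeometry TopologicalSpace Opposite Abelian
open GrothLib.QCoh GrothLib.QCoh.SubData GrothLib.FTIdeals9

noncomputable section

namespace GrothLib.DualQCoh12

variable {X : Scheme.{u}} {F : X.Modules}

/-- The inclusion between two submodules, as a map of modules. -/
def subHom {P Q : SubData F} (h : ∀ T, P.sec T ≤ Q.sec T) : P.obj ⟶ Q.obj :=
  ⟨PresheafOfModules.homMk
    { app := fun T ↦ AddCommGrpCat.ofHom (Submodule.inclusion (h T.unop)).toAddMonoidHom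
      naturality := fun _ _ _ ↦ rfl } fun _ _ _ ↦ rfl⟩

theorem subHom_ι {P Q : SubData F} (h : ∀ T, P.sec T ≤ Q.sec T) : subHom h ≫ Q.ι = P.ι := rfl

theorem toAb_subHom {P Q : SubData F} (h : ∀ T, P.sec T ≤ Q.sec T) :
    (QCoh.toAbFun X).map (subHom h) = subMap h := rfl

variable [F.IsQuasicoherent] [CompactSpace X] [QuasiSeparatedSpace X]

/-- The colimit cocone of the finite type submodules. -/
def isColimitFt (F : X.Modules) [F.IsQuasicoherent] : IsColimit (ftCocone F) :=
  IsColimit.ofPointIso (t := ftCocone F) (colimit.isColimit (ftDiag F)) (i := isIso_desc F)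

/-- Every cohomology class comes from a finite type submodule. -/
theorem exists_class (p : ℕ) (x : Coh.HH X F p) : ∃ (Q : FTSub F) (y : Coh.HH X Q.1.obj p),
    Sheaf.H.map ((QCoh.toAbFun X).map Q.1.ι) p y = x := by
  have := ColimCoh.preservesColimit_cohomology_of_isQuasiSeparated (X := X.carrier) (W := (⊤ : Opens X))
    (isQuasiSeparated_univ_iff.2 inferInstance) CompactSpace.isCompact_univ (ftDiag F) p
  let G := (Sheaf.cohomologyPresheafFunctor (Opens.grothendieckTopology X.carrier) p).flip.obj (op (⊤ : Opens X))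
  let e : ∀ A : CohTop.Ab X.carrier, CohTop.H A p ≃+ ↑(G.obj A) := fun A =>
    SheafCoh.extPrecompIso (SheafCoh.freeYTerminalIso (J := Opens.grothendieckTopology X.carrier)
      (isTerminalTop (α := Opens X))) A p
  have nat : ∀ {A B : CohTop.Ab X.carrier} (f : A ⟶ B) (y : CohTop.H A p),
      e B (Sheaf.H.map f p y) = G.map f (e A y) := fun {A B} f y =>
    (Ext.comp_assoc (Ext.mk₀ (SheafCoh.freeYTerminalIso (J := Opens.grothendieckTopology X.carrier)
      (isTerminalTop (α := Opens X))).hom) y (Ext.mk₀ f) (zero_add p) (add_zero p) (by simp)).symm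
  obtain ⟨Q, y, hy⟩ := Concrete.isColimit_exists_rep _ (isColimitOfPreserves G (isColimitFt F))
    (e (ftCocone F).pt x)
  refine ⟨Q, (e ((ftDiag F).obj Q)).symm y, (e (ftCocone F).pt).injective ?_⟩
  refine (nat _ _).trans (Eq.trans ?_ hy)
  exact congrArg (G.map ((ftCocone F).ι.app Q)) ((e _).apply_symm_apply y)

end GrothLib.DualQCoh12

namespace GrothLib.DualQCoh12

variable {A : Type u} [CommRing A] {X : Scheme.{u}} [X.Over (Spec (CommRingCat.of A))]

theorem dualityMap_comp {r : ℕ} {ω : X.Modules} (tr : Coh.HH X ω r →ₗ[A] A) {F G : X.Modules}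
    (f : F ⟶ G) (φ : G ⟶ ω) :
    Canon.dualityMap A X r ω tr F (f ≫ φ) =
      (Canon.dualityMap A X r ω tr G φ) ∘ₗ Canon.HHlin A f r := by
  ext x
  change tr (Sheaf.H.map ((SheafOfModules.toSheaf X.ringCatSheaf).map (f ≫ φ)) r x) = _
  rw [Functor.map_comp, Sheaf.H.map_comp_apply]
  rfl

theorem isRDualOver_of_coh [IsNoetherian X] {r : ℕ} {ω : X.Modules} (hω : Coh.IsQCoh ω)
    (tr : Coh.HH X ω r →ₗ[A] A)
    (h : ∀ F : X.Modules, Coh.IsCoh F → Function.Bijective (Canon.dualityMap A X r ω tr F)) :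
    Canon.IsRDualOver A X r ω tr := by
  refine ⟨hω, fun F hF => ?_⟩
  haveI : F.IsQuasicoherent := hF
  have hcoh : ∀ Q : FTSub F, Coh.IsCoh Q.1.obj := fun Q => ⟨Q.2.isQuasicoherent, Q.2.isFiniteType⟩
  refine ⟨fun φ φ' hφ => ?_, fun ψ => ?_⟩
  · refine Functor.map_injective (SheafOfModules.toSheaf X.ringCatSheaf) ((isColimitFt F).hom_ext fun Q => ?_)
    have hQ : Q.1.ι ≫ φ = Q.1.ι ≫ φ' := (h _ (hcoh Q)).1 (by
      rw [dualityMap_comp, dualityMap_comp, hφ])
    exact ((QCoh.toAbFun X).map_comp _ _).symm.trans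
      ((congrArg (QCoh.toAbFun X).map hQ).trans ((QCoh.toAbFun X).map_comp _ _))
  · choose φ hφ using fun Q : FTSub F => (h _ (hcoh Q)).2 (ψ ∘ₗ Canon.HHlin A Q.1.ι r)
    have hcomp : ∀ {P Q : FTSub F} (hle : P ≤ Q), subHom (P := P.1) (Q := Q.1) hle ≫ φ Q = φ P := by
      intro P Q hle
      apply (h _ (hcoh P)).1
      rw [dualityMap_comp, hφ, hφ]
      ext x
      exact congrArg ψ ((Sheaf.H.map_comp_apply _ _ x).symm.trans
        (congrArg (fun g => Sheaf.H.map g r x) ((QCoh.toAbFun X).map_comp _ _).symm))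
    let c : Cocone (ftDiag F) :=
      { pt := Coh.toAb ω
        ι :=
          { app := fun Q => (QCoh.toAbFun X).map (φ Q)
            naturality := fun P Q i => by
              refine Eq.trans ?_ (Category.comp_id _).symm
              exact ((QCoh.toAbFun X).map_comp _ _).symm.trans
                (congrArg (QCoh.toAbFun X).map (hcomp (leOfHom i))) } }
    let d : Coh.toAb F ⟶ Coh.toAb ω := (isColimitFt F).desc c
    have hd : ∀ (Q : FTSub F) (T : X.Opens) (s : Γ(F, T)) (hs : s ∈ Q.1.sec T),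
        d.hom.app (op T) s = (φ Q).app T (Q.1.lift s hs) := fun Q T s hs =>
      ConcreteCategory.congr_hom (congrArg (fun f => f.hom.app (op T)) ((isColimitFt F).fac c Q))
        (Q.1.lift s hs)
    have hlin : ∀ (U : X.Opens) (a : Γ(X, U)) (s : Γ(F, U)),
        (show Γ(ω, U) from d.hom.app (op U) (a • s : Γ(F, U))) = a • (show Γ(ω, U) from d.hom.app (op U) s) := by
      intro U a s
      have hloc : ∀ x : U, ∃ V : X.Opens, ∃ (_ : V ≤ U), IsAffineOpen V ∧ x.1 ∈ V := fun x => by
        obtain ⟨V, hV, hxV, hVU⟩ := exists_isAffineOpen_mem_and_subset x.2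
        exact ⟨V, hVU, hV, hxV⟩
      choose V hVU hV hxV using hloc
      refine TopCat.Sheaf.eq_of_locally_eq' (⟨ω.presheaf, ω.isSheaf⟩ : TopCat.Sheaf Ab.{u} X.carrier)
        V U (fun x => homOfLE (hVU x)) (fun x hx => Opens.mem_iSup.2 ⟨⟨x, hx⟩, hxV ⟨x, hx⟩⟩) _ _
        fun x => ?_
      obtain ⟨Q, hQ, hs⟩ := exists_locGen_family (F := F) (κ := PUnit.{u + 1}) (fun _ => V x)
        (fun _ => (hV x).isCompact) (fun _ => F.presheaf.map (homOfLE (hVU x)).op s)
      have hna := ConcreteCategory.congr_hom (d.hom.naturality (homOfLE (hVU x)).op)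
      refine (hna (a • s : Γ(F, U))).symm.trans ?_
      refine Eq.trans ?_ ((congrArg (fun t : Γ(ω, V x) => X.presheaf.map (homOfLE (hVU x)).op a • t)
        (hna s)).trans (ω.map_smul (homOfLE (hVU x)) a (show Γ(ω, U) from d.hom.app (op U) s)).symm)
      refine (congrArg (d.hom.app (op (V x))) (F.map_smul (homOfLE (hVU x)) a s)).trans ?_
      refine (hd ⟨Q, hQ⟩ (V x) _ (Submodule.smul_mem _ _ (hs ⟨⟩))).trans ?_
      refine Eq.trans ?_ (congrArg (fun t : Γ(ω, V x) => X.presheaf.map (homOfLE (hVU x)).op a • t)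
        (hd ⟨Q, hQ⟩ (V x) _ (hs ⟨⟩))).symm
      exact Scheme.Modules.Hom.app_smul (φ ⟨Q, hQ⟩) _ (Q.lift _ (hs ⟨⟩))
    let Φ : F ⟶ ω := ⟨PresheafOfModules.homMk d.hom fun U a s => hlin U.unop a s⟩
    refine ⟨Φ, LinearMap.ext fun x => ?_⟩
    obtain ⟨Q, y, rfl⟩ := exists_class r x
    have hQ : Q.1.ι ≫ Φ = φ Q := Functor.map_injective (SheafOfModules.toSheaf X.ringCatSheaf)
      (((QCoh.toAbFun X).map_comp _ _).trans ((isColimitFt F).fac c Q))
    have h1 := LinearMap.congr_fun ((dualityMap_comp tr Q.1.ι Φ).symm.trans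
      ((congrArg (Canon.dualityMap A X r ω tr Q.1.obj) hQ).trans (hφ Q))) y
    exact h1

end GrothLib.DualQCoh12

end
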