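import Groth.Prelude.Def_Canon
import Groth.Agent.Lib.Snapper.PushEuler
import Groth.Agent.Lib.QCoh.Qcqs

/-!
# Cohomology along an affine morphism, linearly and naturally in the module
-/

set_option autoImplicit false
set_option linter.style.haveILetI false

universe u

open CategoryTheory CategoryTheory.Limits Opposite TopologicalSpace AlgebraicGeometry Abelian

namespace GrothLib.DualQCoh12

open GrothLib.Cohom GrothLib.Snapper

variable {A : Type u} [CommRing A] {X S : Scheme.{u}} [X.Over (Spec (CommRingCat.of A))]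
  [S.Over (Spec (CommRingCat.of A))]

theorem exists_natural_push_equiv (f : X ⟶ S) [IsAffineHom f]
    (hf : f ≫ S ↘ Spec (CommRingCat.of A) = X ↘ Spec (CommRingCat.of A)) (n : ℕ) :
    ∃ e : ∀ M : X.Modules, Coh.IsQCoh M →
        (Coh.HH X M n ≃ₗ[A] Coh.HH S ((Coh.push f).obj M) n),
      ∀ (M N : X.Modules) (hM : Coh.IsQCoh M) (hN : Coh.IsQCoh N) (φ : M ⟶ N) (x : Coh.HH X M n),
        e N hN (Canon.HHlin A φ n x) = Canon.HHlin A ((Coh.push f).map φ) n (e M hM x) := by
  obtain ⟨c⟩ := nonempty_comparison_pushFun f.base (S.isBasis_affineOpens) ⊤ n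
  let hAc := fun (M : X.Modules) (hM : Coh.IsQCoh M) =>
    (haveI : M.IsQuasicoherent := hM; acyclicOn_of_isAffineHom f M)
  let e₀ : ∀ M : X.Modules, Coh.IsQCoh M →
      (Coh.HH X M n ≃+ Coh.HH S ((Coh.push f).obj M) n) := fun M hM =>
    (HEquivTop _ n).trans ((c.equiv (Coh.toAb M) (hAc M hM)).trans (HEquivTop _ n).symm)
  have he : ∀ M hM y, HEquivTop (Coh.toAb ((Coh.push f).obj M)) n (e₀ M hM y) =
      c.equiv (Coh.toAb M) (hAc M hM) (HEquivTop (Coh.toAb M) n y) := fun M hM y =>
    (HEquivTop _ n).apply_symm_apply _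
  refine ⟨fun M hM => { e₀ M hM with map_smul' := fun a x => ?_ }, fun M N hM hN φ x => ?_⟩
  · show e₀ M hM (a • x) = a • e₀ M hM x
    apply (HEquivTop (Coh.toAb ((Coh.push f).obj M)) n).injective
    refine (he M hM _).trans ?_
    show c.equiv (Coh.toAb M) (hAc M hM) (HEquivTop _ n
        (Sheaf.H.map (Coh.smulAb M (Coh.toGlobal (X ↘ Spec (CommRingCat.of A)) a)) n x)) =
      HEquivTop _ n (Sheaf.H.map (Coh.smulAb ((Coh.push f).obj M)
        (Coh.toGlobal (S ↘ Spec (CommRingCat.of A)) a)) n (e₀ M hM x))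
    refine ((congrArg (c.equiv _ (hAc M hM)) (HEquivTop_map _ n x)).trans
      (c.naturality _ (hAc M hM) (hAc M hM) _)).trans ?_
    refine Eq.trans ?_ (HEquivTop_map _ n (e₀ M hM x)).symm
    rw [he M hM x, smulAb_pushforward f M, ← toGlobal_comp, hf]
    rfl
  · show e₀ N hN (Canon.HHlin A φ n x) = Canon.HHlin A ((Coh.push f).map φ) n (e₀ M hM x)
    apply (HEquivTop (Coh.toAb ((Coh.push f).obj N)) n).injective
    refine (he N hN _).trans ?_
    refine ((congrArg (c.equiv _ (hAc N hN)) (HEquivTop_map _ n x)).trans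
      (c.naturality _ (hAc M hM) (hAc N hN) _)).trans ?_
    refine Eq.trans ?_ (HEquivTop_map _ n (e₀ M hM x)).symm
    rw [he M hM x]
    rfl

end GrothLib.DualQCoh12
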