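import Groth.Prelude.Def_Canon
import Groth.Agent.Lib.ProjCohom.Corollaries
import Groth.Agent.Lib.RegTilde27.Basic

/-!
# The top cohomology of twists on projective space, with multiplication by forms
-/

set_option autoImplicit false
set_option backward.isDefEq.respectTransparency false
set_option linter.style.haveILetI false
universe u

open AlgebraicGeometry CategoryTheory TopologicalSpace Opposite

noncomputable section

namespace GrothLib.DualQCoh12

open GrothLib.GrTilde GrothLib.ProjCohom

/-- Homology from a map on cocycles, with its value on classes of cocycles. -/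
theorem exists_homology_equiv {R : Type u} [CommRing R] (K : CochainComplex (ModuleCat.{u} R) ℕ) (i j k : ℕ)
    (hi : (ComplexShape.up ℕ).prev j = i) (hk : (ComplexShape.up ℕ).next j = k)
    {N : Type u} [AddCommGroup N] [Module R N] (T : K.X j →ₗ[R] N)
    (hs : ∀ v, ∃ y, K.d j k y = 0 ∧ T y = v)
    (hker : ∀ y, K.d j k y = 0 → T y = 0 → ∃ z, K.d i j z = y) (hb : ∀ z, T (K.d i j z) = 0) :
    ∃ E : K.homology j ≃ₗ[R] N, ∀ c : K.cycles j, E (K.homologyπ j c) = T (K.iCycles j c) := by
  have hw : K.toCycles i j ≫ (K.iCycles j ≫ ModuleCat.ofHom T) = 0 := by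
    rw [HomologicalComplex.toCycles_i_assoc]
    ext z
    exact hb z
  let E₀ : K.homology j ⟶ ModuleCat.of R N :=
    (K.homologyIsCokernel i j hi).desc (Limits.CokernelCofork.ofπ (K.iCycles j ≫ ModuleCat.ofHom T) hw)
  have hE : ∀ c : K.cycles j, E₀ (K.homologyπ j c) = T (K.iCycles j c) := fun c =>
    ConcreteCategory.congr_hom ((K.homologyIsCokernel i j hi).fac
      (Limits.CokernelCofork.ofπ (K.iCycles j ≫ ModuleCat.ofHom T) hw) Limits.WalkingParallelPair.one) c
  have hπ : Function.Surjective (K.homologyπ j) :=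
    (ModuleCat.epi_iff_surjective _).1 inferInstance
  have hinj : Function.Injective (K.iCycles j) := (ModuleCat.mono_iff_injective _).1 inferInstance
  refine ⟨LinearEquiv.ofBijective E₀.hom ⟨(injective_iff_map_eq_zero _).2 fun x hx => ?_, fun v => ?_⟩, hE⟩
  · obtain ⟨c, rfl⟩ := hπ x
    obtain ⟨z, hz⟩ := hker (K.iCycles j c)
      (ConcreteCategory.congr_hom (K.iCycles_d j k) c) ((hE c).symm.trans hx)
    have hc : c = K.toCycles i j z := hinj (hz.symm.trans
      (ConcreteCategory.congr_hom (K.toCycles_i i j) z).symm)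
    rw [hc]
    exact ConcreteCategory.congr_hom (K.toCycles_comp_homologyπ i j) z
  · obtain ⟨y, hy, hv⟩ := hs v
    let f : ModuleCat.of R R ⟶ K.X j := ModuleCat.ofHom (LinearMap.toSpanSingleton R _ y)
    have hf : f ≫ K.d j k = 0 := by
      ext
      show K.d j k ((1 : R) • y) = 0
      rw [one_smul, hy]
    refine ⟨K.homologyπ j (K.liftCycles f k hk hf (1 : R)), (hE _).trans ?_⟩
    rw [show K.iCycles j (K.liftCycles f k hk hf (1 : R)) = y from
      (ConcreteCategory.congr_hom (K.liftCycles_i f k hk hf) (1 : R)).trans (one_smul R y)]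
    exact hv

variable {n : ℕ} {R : Type u} [CommRing R]

theorem topT_mem {k : ℕ} (y : (K n R (-((n : ℤ) + 1 + k))).X n) :
    toPoly neg neg_injective (Φ n y id) ∈ MvPolynomial.homogeneousSubmodule (Fin (n + 1)) R k := by
  intro a ha
  have := (good_Φ y id (neg a) ha).1
  rw [weight_eq_sum]
  simp only [neg, Finset.sum_sub_distrib, Finset.sum_neg_distrib, Finset.sum_const, Finset.card_univ,
    Fintype.card_fin, nsmul_eq_mul, mul_one] at this
  push_cast at this
  have h' : ((∑ i, a i : ℕ) : ℤ) = k := by push_cast; linarith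
  exact_mod_cast h'

/-- The coefficients of the totally negative monomials of a top cochain. -/
def topT (k : ℕ) : (K n R (-((n : ℤ) + 1 + k))).X n →ₗ[R] MvPolynomial.homogeneousSubmodule (Fin (n + 1)) R k :=
  LinearMap.codRestrict _ ((toPoly neg neg_injective) ∘ₗ
    (LinearMap.proj (R := R) (φ := fun _ : Fin (n + 1) → Fin (n + 1) => Lau n R) id) ∘ₗ Φ n) topT_mem

theorem coeff_topT {k : ℕ} (y : (K n R (-((n : ℤ) + 1 + k))).X n) (a : Fin (n + 1) →₀ ℕ) :
    MvPolynomial.coeff a (topT k y).1 = co (Φ n y) (neg a) id := rfl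

theorem exists_topEquiv (k : ℕ) :
    ∃ E : (K n R (-((n : ℤ) + 1 + k))).homology n ≃ₗ[R] MvPolynomial.homogeneousSubmodule (Fin (n + 1)) R k,
      ∀ c, E ((K n R (-((n : ℤ) + 1 + k))).homologyπ n c) = topT k ((K n R (-((n : ℤ) + 1 + k))).iCycles n c) := by
  classical
  refine exists_homology_equiv (K n R (-((n : ℤ) + 1 + k))) (n - 1) n (n + 1)
    (by rcases n with _ | m <;> simp) (by simp) (topT k) (fun v => ?_) (fun y hy h0 => ?_) fun z => ?_
  · choose c hc hcD hcv using fun a : Fin (n + 1) →₀ ℕ => exists_cocycle (M := R) n (MvPolynomial.coeff a v.1)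
    let C : (Fin (n + 1) → Fin (n + 1)) → Lau n R := fun s =>
      ∑ a ∈ v.1.support, AddMonoidAlgebra.single (neg a) (c a s)
    have hC : ∀ s a, (C s).coeff (neg a) = if a ∈ v.1.support then c a s else 0 := fun s a => by
      simp [C, AddMonoidAlgebra.coeff_sum, Finsupp.single_apply, neg_injective.eq_iff]
    have hC' : ∀ s b, (C s).coeff b ≠ 0 → ∃ a ∈ v.1.support, neg a = b ∧ c a s ≠ 0 := fun s b hb => by
      rw [AddMonoidAlgebra.coeff_sum] at hb
      obtain ⟨a, ha, hne⟩ := Finset.exists_ne_zero_of_sum_ne_zero (by simpa using hb)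
      rw [Finsupp.single_apply] at hne
      split_ifs at hne with he
      · exact ⟨a, ha, he, hne⟩
      · exact absurd rfl hne
    have hgood : Good (d := -((n : ℤ) + 1 + k)) C := by
      intro s b hb
      obtain ⟨a, ha, rfl, hne⟩ := hC' s b hb
      refine ⟨?_, fun i _ => by_contra fun hi => hne (hc a s fun h => hi (h (Set.mem_univ i)))⟩
      have := v.2 (MvPolynomial.mem_support_iff.1 ha)
      rw [weight_eq_sum] at this
      simp only [neg, Finset.sum_sub_distrib, Finset.sum_neg_distrib, Finset.sum_const, Finset.card_univ,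
        Fintype.card_fin, nsmul_eq_mul, mul_one]
      rw [← this]
      push_cast
      ring
    obtain ⟨y, hy⟩ := exists_Φ_eq C hgood
    refine ⟨y, Φ_injective (n + 1) ?_, Subtype.ext (MvPolynomial.ext _ _ fun a => ?_)⟩
    · rw [Φ_d, hy, map_zero]
      funext s
      refine AddMonoidAlgebra.ext (Finsupp.ext fun b => ?_)
      show co (D C) b s = 0
      rw [co_D]
      by_cases hb : ∃ a, neg a = b
      · obtain ⟨a, rfl⟩ := hb
        rw [show co C (neg a) = fun s => if a ∈ v.1.support then c a s else 0 from funext fun s => hC s a]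
        split_ifs
        · exact congrFun (hcD a) s
        · exact congrFun D_zero s
      · rw [show co C b = 0 from funext fun s => by_contra fun h => by
          obtain ⟨a, -, ha, -⟩ := hC' s b h
          exact hb ⟨a, ha⟩]
        exact congrFun D_zero s
    · rw [coeff_topT, hy, co, hC, hcv]
      split_ifs with h
      · rfl
      · exact (MvPolynomial.notMem_support_iff.1 h).symm
  · have htop : ∀ (b : Ex n), Neg b = Set.univ → co (Φ n y) b id = 0 := by
      intro b hb
      obtain ⟨a, rfl⟩ := exists_neg_eq hb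
      rw [← coeff_topT, h0]
      exact MvPolynomial.coeff_zero a
    rcases n with _ | m
    · refine ⟨0, (map_zero _).trans (Φ_injective 0 ?_)⟩
      rw [map_zero]
      funext s
      refine AddMonoidAlgebra.ext (Finsupp.ext fun b => ?_)
      show (0 : R) = co (Φ 0 y) b s
      rw [show s = id from Subsingleton.elim (α := Fin 1 → Fin 1) _ _]
      by_contra hne
      refine hne (htop b (Set.eq_univ_of_forall fun i => ?_)).symm
      have h1 := (good_Φ y id b (Ne.symm hne)).1
      rw [Fin.sum_univ_one] at h1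
      show b i < 0
      rw [show i = 0 from Subsingleton.elim (α := Fin 1) _ _]
      omega
    · exact exists_primitive y hy fun b _ hb => htop b hb
  · rcases n with _ | m
    · rw [show (K 0 R (-(((0 : ℕ) : ℤ) + 1 + k))).d (0 - 1) 0 = 0 from HomologicalComplex.shape _ _ _ (by simp)]
      simp
    · refine Subtype.ext (MvPolynomial.ext _ _ fun a => ?_)
      rw [coeff_topT]
      show co (Φ (m + 1) ((K (m + 1) R _).d m (m + 1) z)) (neg a) id = _
      rw [Φ_d, co_D, D_id_eq_zero (m + 1) (Neg_neg a ▸ supp_co (good_Φ z) (neg a))]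
      exact (MvPolynomial.coeff_zero a).symm

/-! ### Multiplication by a form -/

variable {c : ℕ} {P : MvPolynomial (Fin (n + 1)) R}

theorem isShift_mul (hP : P ∈ CohB1.polyGrading n R c) :
    RegTilde27.IsShift (CohB1.polyGrading n R) (CohB1.polyGrading n R)
      (LinearMap.mulLeft (MvPolynomial (Fin (n + 1)) R) P) (c : ℤ) := fun i m hm =>
  Or.inr ⟨c + i, by push_cast; ring, SetLike.mul_mem_graded hP hm⟩

/-- Multiplication by a form, between twists. -/
def mulMor (hP : P ∈ CohB1.polyGrading n R c) {d d' : ℤ} (h : d + c = d') :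
    Twist.twistProjSpace n R d ⟶ Twist.twistProjSpace n R d' :=
  RegTilde27.map (isShift_mul hP) h

theorem val_mulMor (hP : P ∈ CohB1.polyGrading n R c) {d d' : ℤ} (h : d + c = d') {p : ℕ}
    (t : Fin (p + 1) → Fin (n + 1)) (m : Sec d (Dt R t)) :
    val d' t (RegTilde27.mapSect (isShift_mul hP) h m) = toL n R P * val d t m := by
  obtain ⟨k, q, a, hr⟩ := exists_isRep d t m
  have h2 : IsRep d' t (RegTilde27.mapSect (isShift_mul hP) h m) k (c + q) (P * a) := by
    refine ⟨hr.1.imp (fun e => by subst h; push_cast at e ⊢; omega) (fun e => by rw [e, mul_zero]),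
      SetLike.mul_mem_graded hP hr.2.1, fun y => ?_⟩
    rw [RegTilde27.evM_mapSect, hr.2.2 y, RegTilde27.locLin_mk]
    rfl
  rw [h2.val_eq, hr.val_eq, repVal, repVal, map_mul, mul_assoc]

theorem Φ_mulMor (hP : P ∈ CohB1.polyGrading n R c) {d d' : ℤ} (h : d + c = d') {p : ℕ}
    (y : (K n R d).X p) (s : Fin (p + 1) → Fin (n + 1)) :
    Φ (d := d') p ((BCCoh.cxMap (ts n R) (U n R) (mulMor hP h)).f p y) s = toL n R P * Φ p y s := by
  rw [Φ_apply, Φ_apply]
  refine Eq.trans (congrArg (val d' s) ?_) (val_mulMor hP h s _)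
  exact (PresheafOfModules.naturality_apply (mulMor hP h).val (homOfLE (W_up s).ge).op (y (up s))).symm

theorem coeff_toL_mul (P : MvPolynomial (Fin (n + 1)) R) (v : Lau n R) (b : Ex n) :
    (toL n R P * v).coeff b = ∑ a ∈ P.support, MvPolynomial.coeff a P * v.coeff (b - pos a) := by
  conv_lhs => rw [MvPolynomial.as_sum P, map_sum, Finset.sum_mul, AddMonoidAlgebra.coeff_sum,
    Finsupp.finsetSum_apply]
  refine Finset.sum_congr rfl fun a _ => ?_
  rw [toL_monomial, show (fun i => (a i : ℤ)) = pos a from rfl]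
  rw [AddMonoidAlgebra.coeff_single_mul_apply]
  congr 2
  abel

end GrothLib.DualQCoh12

end
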